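import Mathlib

/-! Exact differentials on the three-pointed line. -/

set_option autoImplicit false
open Polynomial

namespace ThreePtLine

universe u

variable {k : Type u} [Field k] [CharZero k] (a b : ℕ)

/-- `d(h/(x^a (x-1)^b))` times `x^(a+1) (x-1)^(b+1)`. -/
noncomputable def D : k[X] →ₗ[k] k[X] where
  toFun h := X * (X - 1) * derivative h - ((a : k[X]) * (X - 1) + (b : k[X]) * X) * h
  map_add' h₁ h₂ := by rw [derivative_add]; ring
  map_smul' c h := by
    simp only [RingHom.id_apply, smul_eq_C_mul, derivative_C_mul, mul_sub]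
    ring

theorem D_apply (h : k[X]) : D a b h =
    X * (X - 1) * derivative h - ((a : k[X]) * (X - 1) + (b : k[X]) * X) * h := rfl

omit [CharZero k] in
theorem X_sub_mul_derivative (c : k) (m : ℕ) :
    (X - C c) * derivative ((X - C c : k[X]) ^ m) = (m : k[X]) * (X - C c) ^ m := by
  rcases m with _ | n
  · simp
  · rw [derivative_X_sub_C_pow, map_natCast, Nat.add_sub_cancel, pow_succ]
    ring

theorem D_U : D a b ((X : k[X]) ^ a * (X - 1) ^ b) = 0 := by
  have e1 : X * derivative ((X : k[X]) ^ a) = (a : k[X]) * X ^ a := by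
    simpa using X_sub_mul_derivative (0 : k) a
  have e2 : (X - 1) * derivative ((X - 1 : k[X]) ^ b) = (b : k[X]) * (X - 1) ^ b := by
    simpa using X_sub_mul_derivative (1 : k) b
  rw [D_apply, derivative_mul]
  linear_combination ((X - 1) * (X - 1) ^ b) * e1 + (X * X ^ a) * e2

theorem D_Ux : D a b ((X : k[X]) ^ a * (X - 1) ^ b * X) = X ^ (a + 1) * (X - 1) ^ (b + 1) := by
  have h := D_U (k := k) a b
  rw [D_apply] at h
  rw [D_apply, derivative_mul, derivative_X, pow_succ, pow_succ]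
  linear_combination (X : k[X]) * h

theorem D_X_pow (m : ℕ) : D a b ((X : k[X]) ^ m) =
    ((m : k) - a - b) • X ^ (m + 1) + ((a : k) - m) • X ^ m := by
  have e1 : X * derivative ((X : k[X]) ^ m) = (m : k[X]) * X ^ m := by
    simpa using X_sub_mul_derivative (0 : k) m
  simp only [smul_eq_C_mul, map_sub, map_natCast, D_apply, pow_succ]
  linear_combination (X - 1) * e1

theorem D_sub_one_pow (m : ℕ) : D a b ((X - 1 : k[X]) ^ m) =
    ((m : k) - a - b) • (X - 1) ^ (m + 1) + ((m : k) - b) • (X - 1) ^ m := by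
  have e2 : (X - 1) * derivative ((X - 1 : k[X]) ^ m) = (m : k[X]) * (X - 1) ^ m := by
    simpa using X_sub_mul_derivative (1 : k) m
  simp only [smul_eq_C_mul, map_sub, map_natCast, D_apply, pow_succ]
  linear_combination X * e2

/-- The image of `D` on polynomials of degree at most `a + b + 1`. -/
noncomputable def img : Submodule k k[X] := (degreeLE k ↑(a + b + 1)).map (D a b)

omit [CharZero k] in
theorem D_mem {h : k[X]} (hh : h.natDegree ≤ a + b + 1) : D a b h ∈ img a b :=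
  ⟨h, mem_degreeLE.2 (natDegree_le_iff_degree_le.1 hh), rfl⟩

/-- Descending induction for the two families of generators. -/
theorem desc_mem (c : k) (s : ℕ) (r : ℕ → k) (hr : ∀ m, s ≤ m → r m ≠ 0)
    (hD : ∀ m : ℕ, D a b ((X - C c) ^ m) = ((m : k) - a - b) • (X - C c) ^ (m + 1) + r m • (X - C c) ^ m) :
    ∀ t m, m + t = a + b → s ≤ m → (X - C c) ^ m ∈ img a b := by
  have hdeg : ∀ m, m ≤ a + b → D a b ((X - C c) ^ m) ∈ img a b := fun m hm =>
    D_mem a b (natDegree_pow_le.trans (by rw [natDegree_X_sub_C]; omega))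
  intro t
  induction t with
  | zero =>
    intro m hm hs
    have h := hdeg m (by omega)
    rw [hD, show ((m : k) - a - b) = 0 by rw [show m = a + b by omega]; push_cast; ring, zero_smul,
      zero_add] at h
    exact (Submodule.smul_mem_iff _ (hr m hs)).1 h
  | succ t ih =>
    intro m hm hs
    have h := hdeg m (by omega)
    rw [hD] at h
    exact (Submodule.smul_mem_iff _ (hr m hs)).1
      ((Submodule.add_mem_iff_right _ (Submodule.smul_mem _ _ (ih (m + 1) (by omega) (by omega)))).1 h)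

omit [CharZero k] in
theorem multiples_mem (c : k) (s : ℕ)
    (h : ∀ m, s ≤ m → m ≤ a + b → (X - C c) ^ m ∈ img a b) {f : k[X]}
    (hf : (X - C c) ^ s ∣ f) (hdeg : f.natDegree ≤ a + b) : f ∈ img a b := by
  obtain ⟨g, rfl⟩ := hf
  rcases eq_or_ne g 0 with rfl | hg
  · simp
  rw [natDegree_mul (pow_ne_zero _ (X_sub_C_ne_zero c)) hg, natDegree_pow, natDegree_X_sub_C,
    mul_one] at hdeg
  rw [← Polynomial.sum_taylor_eq g c, Polynomial.sum, Finset.mul_sum]
  refine Submodule.sum_mem _ fun n hn => ?_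
  rw [mul_left_comm, ← pow_add, ← smul_eq_C_mul]
  refine Submodule.smul_mem _ _ (h _ (Nat.le_add_right _ _) ?_)
  have := le_natDegree_of_mem_supp n hn
  rw [natDegree_taylor] at this
  omega

omit [CharZero k] in
theorem dvd_succ_of_dvd_D [CharZero k] {p : k} (hp0 : p ≠ 0) (hp1 : p ≠ 1) {h : k[X]} (hp : h.IsRoot p)
    {m : ℕ} (hm : (X - C p) ^ m ∣ D a b h) : (X - C p) ^ (m + 1) ∣ h := by
  rcases eq_or_ne h 0 with rfl | hne
  · exact dvd_zero _
  obtain ⟨e, he, hnd⟩ := Polynomial.exists_eq_pow_rootMultiplicity_mul_and_not_dvd h hne p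
  set r := rootMultiplicity p h with hr
  obtain ⟨r', hr'⟩ : ∃ r', r = r' + 1 :=
    ⟨r - 1, by have := (rootMultiplicity_pos hne).2 hp; omega⟩
  rw [hr'] at he
  by_contra hcon
  have hle : r' < m := by
    by_contra hlt
    exact hcon (he ▸ dvd_mul_of_dvd_left (pow_dvd_pow _ (by omega)) _)
  have hD : D a b h = (X - C p) ^ r' * (C ((r' : k) + 1) * X * (X - 1) * e +
      (X - C p) * (X * (X - 1) * derivative e - ((a : k[X]) * (X - 1) + (b : k[X]) * X) * e)) := by
    rw [he, D_apply, derivative_mul, derivative_pow_succ, derivative_sub, derivative_X, derivative_C,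
      pow_succ]
    ring
  obtain ⟨t, ht⟩ := (pow_dvd_pow (X - C p) (Nat.succ_le_of_lt hle)).trans hm
  rw [hD, pow_succ, mul_assoc _ (X - C p) t] at ht
  have := congrArg (Polynomial.eval p) (mul_left_cancel₀ (pow_ne_zero _ (X_sub_C_ne_zero p)) ht)
  simp [sub_ne_zero.2 hp1, hp0, Nat.cast_add_one_ne_zero] at this
  exact hnd (dvd_iff_isRoot.2 this)

omit [CharZero k] in
theorem eq_zero_of_dvd {p q : k} (hpq : p ≠ q) {i j N : ℕ} (hN : N < i + j) {h : k[X]}
    (hd : h.natDegree ≤ N) (h1 : (X - C p) ^ i ∣ h) (h2 : (X - C q) ^ j ∣ h) : h = 0 := by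
  by_contra hne
  have := natDegree_le_of_dvd ((isCoprime_X_sub_C_of_isUnit_sub (isUnit_iff_ne_zero.2
    (sub_ne_zero.2 hpq))).pow.mul_dvd h1 h2) hne
  rw [natDegree_mul (pow_ne_zero _ (X_sub_C_ne_zero p)) (pow_ne_zero _ (X_sub_C_ne_zero q)),
    natDegree_pow, natDegree_pow, natDegree_X_sub_C, natDegree_X_sub_C] at this
  omega

theorem main (i j : ℕ) (ha : 0 < a) (hb : 0 < b) (hi : 0 < i) (hiab : i ≤ a + b)
    (hj : i + j = a + b + 2) (V : Submodule k k[X]) (hV : V ≤ img a b)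
    (hVdeg : ∀ f ∈ V, f.natDegree ≤ a + b + 2)
    (p q : k) (hp0 : p ≠ 0) (hp1 : p ≠ 1) (hq0 : q ≠ 0) (hq1 : q ≠ 1) :
    ¬ (1 ≤ Module.finrank k ↥(V ⊓ (Ideal.span {(X - C p) ^ i * (X - C q) ^ j}).restrictScalars k) ∧
       2 ≤ Module.finrank k ↥(V ⊓ (Ideal.span {(X - C p) ^ (i - 1) * (X - C q) ^ (j - 1)}).restrictScalars k)) := by
  rintro ⟨h1, h2⟩
  set P : k[X] := (X - C p) ^ i * (X - C q) ^ j
  have hP : P ≠ 0 := mul_ne_zero (pow_ne_zero _ (X_sub_C_ne_zero p)) (pow_ne_zero _ (X_sub_C_ne_zero q))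
  have hPd : P.natDegree = a + b + 2 := by
    rw [natDegree_mul (pow_ne_zero _ (X_sub_C_ne_zero p)) (pow_ne_zero _ (X_sub_C_ne_zero q)),
      natDegree_pow, natDegree_pow, natDegree_X_sub_C, natDegree_X_sub_C]
    omega
  obtain ⟨f₀, hf₀, hne'⟩ := Submodule.exists_mem_ne_zero_of_ne_bot
    (p := V ⊓ (Ideal.span {P}).restrictScalars k) fun h => by
      rw [h, finrank_bot] at h1
      omega
  obtain ⟨g, hg⟩ := Ideal.mem_span_singleton.1 hf₀.2
  have hg0 : g ≠ 0 := fun h => hne' (by rw [hg, h, mul_zero])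
  obtain ⟨c₀, hgc⟩ : ∃ c, g = C c := by
    refine ⟨_, eq_C_of_natDegree_le_zero ?_⟩
    have := hVdeg f₀ hf₀.1
    rw [hg, natDegree_mul hP hg0, hPd] at this
    omega
  have hc₀ : c₀ ≠ 0 := fun h => hg0 (by rw [hgc, h, map_zero])
  -- primitive of the distinguished form
  obtain ⟨h₀, hh₀d, hh₀⟩ := hV hf₀.1
  set U : k[X] := X ^ a * (X - 1) ^ b
  have hU : D a b U = 0 := D_U a b
  have hUe : ∀ t : k, t ≠ 0 → t ≠ 1 → U.eval t ≠ 0 := fun t h0 h1 => by
    simp [U, h0, sub_ne_zero.2 h1]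
  have hUd : U.natDegree ≤ a + b + 1 := by
    refine natDegree_mul_le.trans ?_
    rw [natDegree_X_pow, natDegree_pow, show (X - 1 : k[X]) = X - C 1 by simp, natDegree_X_sub_C]
    omega
  have hnorm : ∀ h : k[X], h.natDegree ≤ a + b + 1 → ∃ h' : k[X],
      h'.natDegree ≤ a + b + 1 ∧ D a b h' = D a b h ∧ h'.IsRoot p := fun h hh => by
    refine ⟨h - C (h.eval p / U.eval p) * U, ?_, ?_, ?_⟩
    · exact (natDegree_sub_le _ _).trans (max_le hh ((natDegree_C_mul_le _ _).trans hUd))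
    · rw [map_sub, ← smul_eq_C_mul, map_smul, hU, smul_zero, sub_zero]
    · simp [div_mul_cancel₀ _ (hUe p hp0 hp1)]
  obtain ⟨e₀, he₀d, he₀, he₀r⟩ := hnorm h₀ (natDegree_le_iff_degree_le.2 (mem_degreeLE.1 hh₀d))
  rw [hh₀] at he₀
  have he₀ne : e₀ ≠ 0 := fun h => hne' (by rw [← he₀, h, map_zero])
  have he₀p : (X - C p) ^ (i + 1) ∣ e₀ := dvd_succ_of_dvd_D a b hp0 hp1 he₀r
    (by rw [he₀, hg]; exact dvd_mul_of_dvd_left (dvd_mul_right _ _) _)
  by_cases hpq : p = q
  · subst hpq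
    have h : (X - C p) ^ (i + j + 1) ∣ e₀ := dvd_succ_of_dvd_D a b hp0 hp1 he₀r
      (by rw [he₀, hg, pow_add]; exact dvd_mul_right _ _)
    have := natDegree_le_of_dvd h he₀ne
    rw [natDegree_pow, natDegree_X_sub_C] at this
    omega
  have he₀q : e₀.eval q ≠ 0 := fun h => he₀ne (eq_zero_of_dvd hpq (N := a + b + 1) (by omega) he₀d he₀p
    (dvd_succ_of_dvd_D a b hq0 hq1 h (m := j)
      (by rw [he₀, hg]; exact dvd_mul_of_dvd_left (dvd_mul_left _ _) _)))
  have hle : V ⊓ (Ideal.span {(X - C p) ^ (i - 1) * (X - C q) ^ (j - 1)}).restrictScalars k ≤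
      Submodule.span k {f₀} := by
    intro f hf
    obtain ⟨h, hhd, hh⟩ := hV hf.1
    obtain ⟨e, hed, he, her⟩ := hnorm h (natDegree_le_iff_degree_le.2 (mem_degreeLE.1 hhd))
    rw [hh] at he
    have hW := Ideal.mem_span_singleton.1 hf.2
    set β := e.eval q / e₀.eval q
    set e' := e - C β * e₀
    have hDe' : D a b e' = f - β • f₀ := by
      rw [map_sub, ← smul_eq_C_mul, map_smul, he, he₀]
    have hWf : (X - C p) ^ (i - 1) * (X - C q) ^ (j - 1) ∣ f - β • f₀ := by
      refine dvd_sub hW ?_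
      rw [hg, smul_eq_C_mul]
      exact dvd_mul_of_dvd_right (dvd_mul_of_dvd_left
        (mul_dvd_mul (pow_dvd_pow _ (Nat.sub_le i 1)) (pow_dvd_pow _ (Nat.sub_le j 1))) _) _
    have he'p : (X - C p) ^ (i - 1 + 1) ∣ e' := dvd_succ_of_dvd_D a b hp0 hp1
      (by simp [e', her.eq_zero, he₀r.eq_zero]) (by rw [hDe']; exact (dvd_mul_right _ _).trans hWf)
    have he'q : (X - C q) ^ (j - 1 + 1) ∣ e' := dvd_succ_of_dvd_D a b hq0 hq1
      (by simp [e', β, div_mul_cancel₀ _ he₀q]) (by rw [hDe']; exact (dvd_mul_left _ _).trans hWf)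
    have he'0 : e' = 0 := eq_zero_of_dvd hpq (N := a + b + 1) (by omega)
      ((natDegree_sub_le _ _).trans (max_le hed ((natDegree_C_mul_le _ _).trans he₀d))) he'p he'q
    rw [he'0, map_zero, eq_comm, sub_eq_zero] at hDe'
    rw [hDe']
    exact Submodule.smul_mem _ _ (Submodule.mem_span_singleton_self _)
  have := (Submodule.finrank_mono hle).trans (finrank_span_singleton hne').le
  omega

theorem gen_le_img {a b : ℕ} (ha : 0 < a) (hb : 0 < b) :
    ((Ideal.span {(X : k[X]) ^ (a + 1)}).restrictScalars k ⊓ degreeLE k ↑(a + b)) ⊔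
      ((Ideal.span {((X : k[X]) - 1) ^ (b + 1)}).restrictScalars k ⊓ degreeLE k ↑(a + b)) ⊔
      Submodule.span k {(X : k[X]) ^ (a + 1) * (X - 1) ^ (b + 1)} ≤ img a b := by
  refine sup_le (sup_le ?_ ?_) ?_
  · rintro f ⟨hf, hd⟩
    refine multiples_mem a b 0 (a + 1) (fun m hs hm => ?_)
      (by simpa using Ideal.mem_span_singleton.1 hf) (natDegree_le_iff_degree_le.2 (mem_degreeLE.1 hd))
    refine desc_mem a b 0 (a + 1) (fun m => (a : k) - m) (fun m h h' => ?_)
      (fun m => by simpa using D_X_pow a b m) (a + b - m) m (by omega) hs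
    have : a = m := by exact_mod_cast sub_eq_zero.1 h'
    omega
  · rintro f ⟨hf, hd⟩
    refine multiples_mem a b 1 (b + 1) (fun m hs hm => ?_)
      (by simpa using Ideal.mem_span_singleton.1 hf) (natDegree_le_iff_degree_le.2 (mem_degreeLE.1 hd))
    refine desc_mem a b 1 (b + 1) (fun m => (m : k) - b) (fun m h h' => ?_)
      (fun m => by simpa using D_sub_one_pow a b m) (a + b - m) m (by omega) hs
    have : m = b := by exact_mod_cast sub_eq_zero.1 h'
    omega
  · rw [Submodule.span_le, Set.singleton_subset_iff, SetLike.mem_coe, ← D_Ux]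
    refine D_mem a b (natDegree_mul_le.trans ?_)
    rw [natDegree_X]
    refine Nat.add_le_add_right (natDegree_mul_le.trans ?_) 1
    rw [natDegree_X_pow, natDegree_pow, show (X - 1 : k[X]) = X - C 1 by simp, natDegree_X_sub_C]
    omega

omit [CharZero k] in
theorem gen_deg {a b : ℕ} {f : k[X]}
    (hf : f ∈ ((Ideal.span {(X : k[X]) ^ (a + 1)}).restrictScalars k ⊓ degreeLE k ↑(a + b)) ⊔
      ((Ideal.span {((X : k[X]) - 1) ^ (b + 1)}).restrictScalars k ⊓ degreeLE k ↑(a + b)) ⊔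
      Submodule.span k {(X : k[X]) ^ (a + 1) * (X - 1) ^ (b + 1)}) : f.natDegree ≤ a + b + 2 := by
  refine natDegree_le_iff_degree_le.2 (mem_degreeLE.1 (SetLike.le_def.1 ?_ hf))
  refine sup_le (sup_le ?_ ?_) ?_
  · exact inf_le_right.trans (degreeLE_mono (by exact_mod_cast Nat.le_add_right (a + b) 2))
  · exact inf_le_right.trans (degreeLE_mono (by exact_mod_cast Nat.le_add_right (a + b) 2))
  · rw [Submodule.span_le, Set.singleton_subset_iff, SetLike.mem_coe, mem_degreeLE,
      ← natDegree_le_iff_degree_le]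
    refine natDegree_mul_le.trans ?_
    rw [natDegree_X_pow, natDegree_pow, show (X - 1 : k[X]) = X - C 1 by simp, natDegree_X_sub_C]
    omega

end ThreePtLine
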